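import Cfsg.Agent.H843.IMC.Co2B
import Cfsg.Agent.H133.Ore.Inv
import Cfsg.Agent.H133.Ore.Tools
import Cfsg.Agent.H511.Ore.WRow
import Cfsg.Agent.H365.RIM.U62N
import Cfsg.Agent.S2335
import Cfsg.Agent.S1577
import Cfsg.Agent.S0283
import Cfsg.Agent.H681.CoTwoUSix

/-!
# S4908: `Co2` has no character of degree 45 (helper974)

The permutation character on the 4600 vectors is `1 + 23 + 275 + 2024 + 2277`; the stabiliser is `U₆(2)`, whose small
degrees are among 1, 21, 22, 27, 28.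
-/

set_option autoImplicit false

namespace Cfsg.Agent.H974.S8.CoTwo

open Cfsg Cfsg.Agent.H33 Cfsg.Agent.H672.SporIM Cfsg.Agent.H690.Spor.RankThree MulAction
open Cfsg.Agent.SporadicStructure.Co2RankThree Cfsg.Agent.Characters.Core
open Cfsg.Agent.H713.Spor.RankThree (pc inner_pc_one inner_pc_self pc_one inner_ne)
open Cfsg.Agent.H843.IMC Cfsg.Agent.H843.IMC.Co2B
open scoped ComplexConjugate

/-- **the constituents of the permutation character on the 4600 vectors** -/
theorem const_deg [Fintype Spor.Co2] (η : IrrCharacter Spor.Co2)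
    (hη : classInner (pc Spor.Co2 X) (η : Spor.Co2 → ℂ) ≠ 0) :
    charDegree (η : Spor.Co2 → ℂ) = 1 ∨ charDegree (η : Spor.Co2 → ℂ) = 23 ∨ charDegree (η : Spor.Co2 → ℂ) = 275 ∨
      charDegree (η : Spor.Co2 → ℂ) = 2024 ∨ charDegree (η : Spor.Co2 → ℂ) = 2277 := by
  classical
  have := Fintype.ofFinite Y
  have hne : Nonempty X := ⟨⟨y1, y1_mem_A⟩⟩
  have hne' : Nonempty Y := ⟨mk ⟨y1, y1_mem_A⟩⟩
  obtain ⟨χ₁, χ₂, h1, h2, h3⟩ := Co2A.of_R3 Co2A.card_co2 r3
  obtain ⟨μ, hμ⟩ := Co2A.exists_mu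
  have hμ23 : charDegree (μ : Spor.Co2 → ℂ) = 23 := by
    obtain ⟨μ', h'⟩ := Co2A.hasDeg_23
    have h4 := hμ 1
    have h6 : Cfsg.Agent.H419.LeechIrr.lchi Cfsg.Agent.H419.Spor.Co2.inc 1 = 24 := by
      rw [Cfsg.Agent.H419.LeechIrr.lchi, map_one, Cfsg.Agent.SigZeroCo2.Lin.tr8_one]
      norm_num
    rw [h6, Cfsg.Agent.Blocks.Basic.irr_one_eq_charDegree μ.2] at h4
    have : (24 : ℂ) = ((1 + charDegree (μ : Spor.Co2 → ℂ) : ℕ) : ℂ) := by rw [h4]; push_cast; ring
    have h9 : 24 = 1 + charDegree (μ : Spor.Co2 → ℂ) := by exact_mod_cast this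
    omega
  have ne_of_deg : ∀ {α β : IrrCharacter Spor.Co2}, charDegree (α : Spor.Co2 → ℂ) ≠ charDegree (β : Spor.Co2 → ℂ) →
      (α : Spor.Co2 → ℂ) ≠ β := by
    intro α β h hcon
    exact h (by rw [hcon])
  have hone : charDegree (1 : Spor.Co2 → ℂ) = 1 := by
    unfold charDegree
    simp
  have hμ1 : (μ : Spor.Co2 → ℂ) ≠ 1 := by
    intro h
    rw [h, hone] at hμ23
    omega
  have hχ1 : (χ₁ : Spor.Co2 → ℂ) ≠ 1 := by
    intro h
    rw [h, hone] at h1
    omega
  have hχ2 : (χ₂ : Spor.Co2 → ℂ) ≠ 1 := by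
    intro h
    rw [h, hone] at h2
    omega
  have h12 : (χ₁ : Spor.Co2 → ℂ) ≠ χ₂ := ne_of_deg (by rw [h1, h2]; norm_num)
  have h1μ : (χ₁ : Spor.Co2 → ℂ) ≠ μ := ne_of_deg (by rw [h1, hμ23]; norm_num)
  have h2μ : (χ₂ : Spor.Co2 → ℂ) ≠ μ := ne_of_deg (by rw [h2, hμ23]; norm_num)
  -- the permutation character of the pairs
  have hY : pc Spor.Co2 Y = 1 + (χ₁ : Spor.Co2 → ℂ) + (χ₂ : Spor.Co2 → ℂ) := by
    funext g
    exact h3 g
  have hYY : classInner (pc Spor.Co2 Y) (pc Spor.Co2 Y) = 3 := by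
    rw [hY]
    simp only [classInner_add_left, classInner_add_right]
    rw [classInner_irr_self isIrr_one, classInner_irr_self χ₁.2, classInner_irr_self χ₂.2,
      classInner_irr_ne isIrr_one χ₁.2 hχ1.symm, classInner_irr_ne isIrr_one χ₂.2 hχ2.symm,
      classInner_irr_ne χ₁.2 isIrr_one hχ1, classInner_irr_ne χ₂.2 isIrr_one hχ2,
      classInner_irr_ne χ₁.2 χ₂.2 h12, classInner_irr_ne χ₂.2 χ₁.2 h12.symm]
    norm_num
  have hYμ : classInner (pc Spor.Co2 Y) (μ : Spor.Co2 → ℂ) = 0 := by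
    rw [hY]
    simp only [classInner_add_left]
    rw [classInner_irr_ne isIrr_one μ.2 hμ1.symm, classInner_irr_ne χ₁.2 μ.2 h1μ, classInner_irr_ne χ₂.2 μ.2 h2μ]
    norm_num
  have hμY : classInner (μ : Spor.Co2 → ℂ) (pc Spor.Co2 Y) = 0 := by
    rw [← classInner_conj_symm, hYμ, map_zero]
  -- the numbers of orbits
  obtain ⟨N1, hN1⟩ : ∃ n : ℕ, n = Nat.card (Quotient (orbitRel Spor.Co2 (X × X))) := ⟨_, rfl⟩
  obtain ⟨N2, hN2⟩ : ∃ n : ℕ, n = Nat.card (Quotient (orbitRel Spor.Co2 (X × Y))) := ⟨_, rfl⟩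
  have hN1' : N1 ≤ 5 := by rw [hN1]; exact rank_le
  have hN3 : Nat.card (Quotient (orbitRel Spor.Co2 (Y × Y))) = 3 := by
    have h4 := inner_pc_self (G := Spor.Co2) Y
    rw [hYY] at h4
    exact_mod_cast h4.symm
  have hN2' : 3 ≤ N2 := by rw [hN2, ← hN3]; exact rank_mono
  have hXX : classInner (pc Spor.Co2 X) (pc Spor.Co2 X) = N1 := by rw [hN1]; exact inner_pc_self X
  have hXY : classInner (pc Spor.Co2 X) (pc Spor.Co2 Y) = N2 := by rw [hN2]; exact inner_pc_pc X Y
  have hYX : classInner (pc Spor.Co2 Y) (pc Spor.Co2 X) = N2 := by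
    rw [← classInner_conj_symm, hXY, Complex.conj_natCast]
  -- the character of degree 23
  have hXμ : classInner (pc Spor.Co2 X) (μ : Spor.Co2 → ℂ) ≠ 0 := by
    refine inner_ne Cfsg.Agent.H419.Spor.Co2.inc μ hμ1 (d := 1) (fun g => by rw [hμ g]; norm_num) X
      (fun x => Cfsg.Agent.H419.Spor.Co2.c • x.1) ?_ ?_
    · intro γ x
      show Cfsg.Agent.H419.Spor.Co2.c • (toCo0 γ • x.1) =
        (Cfsg.Agent.H419.Spor.Co2.c * toCo0 γ * Cfsg.Agent.H419.Spor.Co2.c⁻¹) • Cfsg.Agent.H419.Spor.Co2.c • x.1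
      rw [mul_smul, mul_smul, inv_smul_smul]
    · intro x
      obtain ⟨γ, hγ⟩ := exists_smul x (op x)
      refine ⟨γ, fun hcon => op_ne x ?_⟩
      rw [← hγ]
      apply Subtype.ext
      have h4 : Cfsg.Agent.H419.Spor.Co2.inc γ • Cfsg.Agent.H419.Spor.Co2.c • x.1 =
          Cfsg.Agent.H419.Spor.Co2.c • (toCo0 γ • x.1) := by
        show (Cfsg.Agent.H419.Spor.Co2.c * toCo0 γ * Cfsg.Agent.H419.Spor.Co2.c⁻¹) • Cfsg.Agent.H419.Spor.Co2.c • x.1 = _
        rw [mul_smul, mul_smul, inv_smul_smul]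
      rw [h4] at hcon
      exact MulAction.injective Cfsg.Agent.H419.Spor.Co2.c hcon
  obtain ⟨m, hm⟩ := classInner_isNat (Cfsg.Agent.S0157.isCharacter_fixedBy (G := Spor.Co2) X) (isIrr_isCharacter μ.2)
  change classInner (pc Spor.Co2 X) μ = m at hm
  have hm0 : m ≠ 0 := by
    rintro rfl
    exact hXμ (by rw [hm]; norm_num)
  have hm' : classInner (μ : Spor.Co2 → ℂ) (pc Spor.Co2 X) = m := by
    rw [← classInner_conj_symm, hm, Complex.conj_natCast]
  -- the difference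
  set ψ : Spor.Co2 → ℂ := pc Spor.Co2 X - (pc Spor.Co2 Y + (μ : Spor.Co2 → ℂ)) with hψ
  have hgen : IsGeneralizedCharacter Spor.Co2 ψ := by
    rw [isGeneralizedCharacter_def]
    exact ⟨_, _, Cfsg.Agent.S0157.isCharacter_fixedBy X,
      isCharacter_add (Cfsg.Agent.S0157.isCharacter_fixedBy Y) (isIrr_isCharacter μ.2), rfl⟩
  have hval : ψ 1 = 2277 := by
    rw [hψ, Pi.sub_apply, Pi.add_apply, pc_one, pc_one, card_X, card_Y,
      Cfsg.Agent.Blocks.Basic.irr_one_eq_charDegree μ.2, hμ23]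
    norm_num
  have hnorm : classInner ψ ψ = (((N1 : ℤ) - 2 * N2 + 4 - 2 * m : ℤ) : ℂ) := by
    rw [hψ]
    simp only [classInner_sub_left, classInner_sub_right, classInner_add_left, classInner_add_right]
    rw [hXX, hXY, hYX, hYY, hm, hm', hYμ, hμY, classInner_irr_self μ.2]
    push_cast
    ring
  have hpos : ψ ≠ 0 := by
    intro h
    rw [h, Pi.zero_apply] at hval
    norm_num at hval
  have hnonneg : 0 < (N1 : ℤ) - 2 * N2 + 4 - 2 * m := by
    have h4 := classInner_self_eq_ofReal ψ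
    rw [hnorm] at h4
    have h5 : (((N1 : ℤ) - 2 * N2 + 4 - 2 * m : ℤ) : ℝ) =
        (Nat.card Spor.Co2 : ℝ)⁻¹ * ∑ g : Spor.Co2, Complex.normSq (ψ g) := by exact_mod_cast h4
    have h6 : (0 : ℝ) ≤ (((N1 : ℤ) - 2 * N2 + 4 - 2 * m : ℤ) : ℝ) := by
      rw [h5]
      exact mul_nonneg (by positivity) (Finset.sum_nonneg fun _ _ => Complex.normSq_nonneg _)
    have h7 : (0 : ℤ) ≤ (N1 : ℤ) - 2 * N2 + 4 - 2 * m := by exact_mod_cast h6
    refine lt_of_le_of_ne h7 fun h8 => hpos ?_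
    apply classInner_self_eq_zero
    rw [hnorm, ← h8]
    norm_num
  have hone' : (N1 : ℤ) - 2 * N2 + 4 - 2 * m = 1 := by omega
  rw [hone'] at hnorm
  rcases isIrr_of_generalized hgen (by rw [hnorm]; norm_num) with h | h
  · have hψd : charDegree ψ = 2277 :=
      Cfsg.Agent.H670.PSing.charDegree_eq_of (by rw [hval]; norm_num)
    have hX : pc Spor.Co2 X = ψ + (1 + (χ₁ : Spor.Co2 → ℂ) + (χ₂ : Spor.Co2 → ℂ) + (μ : Spor.Co2 → ℂ)) := by
      rw [hψ, hY, sub_add_cancel]
    by_contra hcon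
    push Not at hcon
    obtain ⟨n1, n23, n275, n2024, n2277⟩ := hcon
    apply hη
    have ne' : ∀ {α : Spor.Co2 → ℂ}, charDegree α ≠ charDegree (η : Spor.Co2 → ℂ) → α ≠ η := by
      intro α h4 h5
      exact h4 (by rw [h5])
    rw [hX]
    simp only [classInner_add_left]
    rw [classInner_irr_ne h η.2 (ne' (by rw [hψd]; exact n2277.symm)),
      classInner_irr_ne isIrr_one η.2 (ne' (by rw [hone]; exact n1.symm)),
      classInner_irr_ne χ₁.2 η.2 (ne' (by rw [h1]; exact n2024.symm)),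
      classInner_irr_ne χ₂.2 η.2 (ne' (by rw [h2]; exact n275.symm)),
      classInner_irr_ne μ.2 η.2 (ne' (by rw [hμ23]; exact n23.symm))]
    norm_num
  · exfalso
    obtain ⟨n, hn, hn'⟩ := isIrr_apply_one h
    rw [Pi.neg_apply, hval] at hn'
    have h4 : ((n : ℤ) : ℂ) + ((2277 : ℤ) : ℂ) = 0 := by
      push_cast
      rw [← hn']
      ring
    have h5 : (n : ℤ) + 2277 = 0 := by exact_mod_cast h4
    omega

/-- the point -/
def x0 : X := ⟨y1, y1_mem_A⟩

/-- no fixed vector of the stabiliser -/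
theorem sum_stab0 [Fintype Spor.Co2] [Fintype (stabilizer Spor.Co2 x0)] (χ : IrrCharacter Spor.Co2)
    (h1 : charDegree (χ : Spor.Co2 → ℂ) ≠ 1)
    (h2 : charDegree (χ : Spor.Co2 → ℂ) ≠ 23) (h3 : charDegree (χ : Spor.Co2 → ℂ) ≠ 275)
    (h4 : charDegree (χ : Spor.Co2 → ℂ) ≠ 2024) (h5 : charDegree (χ : Spor.Co2 → ℂ) ≠ 2277) :
    ∑ g : stabilizer Spor.Co2 x0, (χ : Spor.Co2 → ℂ) g = 0 := by
  classical
  have h6 : classInner (pc Spor.Co2 X) (χ : Spor.Co2 → ℂ) = 0 := by
    by_contra h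
    rcases const_deg χ h with h | h | h | h | h
    · exact h1 h
    · exact h2 h
    · exact h3 h
    · exact h4 h
    · exact h5 h
  have h7 : classInner (χ : Spor.Co2 → ℂ) (pc Spor.Co2 X) = 0 := by
    rw [← classInner_conj_symm, h6, map_zero]
  rw [classInner_def] at h7
  have h8 : ∑ g : Spor.Co2, (Nat.card (fixedBy X g) : ℂ) * (χ : Spor.Co2 → ℂ) g = 0 := by
    have h9 := (mul_eq_zero.1 h7).resolve_left (inv_ne_zero card_ne_zero_complex)
    rw [← h9]
    refine Finset.sum_congr rfl fun g _ => ?_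
    rw [pc, Complex.conj_natCast, mul_comm]
  rw [H133.Ore.sum_stab x0 (isIrr_isClassFunction χ.2)] at h8
  exact (mul_eq_zero.1 h8).resolve_left (by rw [card_X]; norm_num)

/-! ### `U₆(2)` -/

namespace USix

open Subgroup Cfsg.Agent.H653.Sieve Cfsg.Agent.H651.Two
open Cfsg.Agent.H511.Ore (MinDeg NoDeg DegOff DegOn tstOn degOn_of_check)
open Cfsg.Agent.SporadicA.FieldFour

/-- `U₆(2)` -/
abbrev U : Type := PSU 6 F4 2

def c7 : CD := ⟨7, 1, 6, 1, [(0, 0), (1, 1), (6, -1)], 0, false⟩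

def c11 : CD := ⟨11, 1, 5, 2, [(0, 0), (1, 2), (5, -1), (6, 1), (10, -2)], 2, true⟩

def cd : List CD := [c7, c11]

theorem ok : (cd.all (CD.ok 9196830720)) = true := by decide +kernel

def facs : List (ℕ × ℕ) := [(11, 1), (7, 1), (5, 1), (3, 6), (2, 15)]

theorem facs_prime : (facs.all fun pa => Nat.Prime pa.1) = true := by norm_num [facs]

theorem facs_prod : facProd facs = 9196830720 := by decide +kernel

theorem card : Nat.card U = 9196830720 := H365.RIM.card_PSU

theorem simple : IsSimpleGroup U := Cfsg.Agent.S0283.result H365.RIM.hF4 6 (by norm_num) (by omega)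

theorem fin : Finite U := Nat.finite_of_card_ne_zero (by rw [card]; norm_num)

theorem not_comm : ¬ IsMulCommutative U := by
  have := simple
  have := fin
  exact H133.Ore.not_comm_of (by rw [card]; norm_num)

theorem minDeg : MinDeg U 21 := by
  have := simple
  have := fin
  intro χ h1
  have h := H511.Ore.two_le_charDegree not_comm χ h1
  have h1 : IsIrrCharacter (SU 6 F4 2) ((χ : U → ℂ) ∘ QuotientGroup.mk' (Subgroup.center (SU 6 F4 2))) :=
    Cfsg.Agent.Characters.Core.isIrr_comp _ (QuotientGroup.mk'_surjective _) χ.2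
  obtain ⟨k, ρ, hρ, hk⟩ := h1
  have h2 : charDegree (χ : U → ℂ) = k := by
    have h3 := congrFun hk 1
    rw [Representation.char_one, Module.finrank_fin_fun, Function.comp, map_one, Blocks.Knorr.charDegree_eq χ.2] at h3
    exact_mod_cast h3.symm
  rw [h2] at h ⊢
  exact S2335.result 6 2 (by norm_num) (by decide) H365.RIM.hF4 (by decide) k ρ hρ h

theorem has : ∀ d ∈ cd, d.Has U := by
  have := fin
  intro d hd
  simp only [cd, List.mem_cons, List.not_mem_nil, or_false] at hd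
  rcases hd with rfl | rfl
  · obtain ⟨x, hx⟩ := H133.Ore.exists_order card (p := 7) (by norm_num) (by norm_num)
    exact H133.Ore.has_of_eq (d := c7) (by norm_num [c7]) hx (H365.RIM.cent_seven hx)
  · obtain ⟨x, hx⟩ := H133.Ore.exists_order card (p := 11) (by norm_num) (by norm_num)
    exact H133.Ore.has_of_eq (d := c11) (by norm_num [c11]) hx (H365.RIM.cent_eleven hx)

/-- not 21, 22, 27, 28 -/
def P (d : ℕ) : Bool := !(Nat.beq d 21 || Nat.beq d 22 || Nat.beq d 27 || Nat.beq d 28)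

theorem chk : allDiv (46 * 46) (tstOn P 21 [] cd) facs 1 = true := by decide +kernel

theorem deg (ψ : IrrCharacter U) (h1 : (ψ : U → ℂ) ≠ 1) : charDegree (ψ : U → ℂ) = 21 ∨
    charDegree (ψ : U → ℂ) = 22 ∨ charDegree (ψ : U → ℂ) = 27 ∨ charDegree (ψ : U → ℂ) = 28 ∨
      46 ≤ charDegree (ψ : U → ℂ) := by
  have := simple
  have := fin
  by_cases h : P (charDegree (ψ : U → ℂ)) = true
  · exact Or.inr (Or.inr (Or.inr (Or.inr (degOn_of_check not_comm _ card facs facs_prime facs_prod cd ok has minDeg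
      H133.Ore.noDeg_nil chk ψ h1 h))))
  · simp only [P, Bool.not_eq_true', Bool.not_eq_false, Bool.or_eq_true] at h
    rcases h with ((h | h) | h) | h
    · exact Or.inl (Nat.eq_of_beq_eq_true h)
    · exact Or.inr (Or.inl (Nat.eq_of_beq_eq_true h))
    · exact Or.inr (Or.inr (Or.inl (Nat.eq_of_beq_eq_true h)))
    · exact Or.inr (Or.inr (Or.inr (Or.inl (Nat.eq_of_beq_eq_true h))))

end USix

open Cfsg.Agent.SporadicA.FieldFour in
/-- the stabiliser is `U₆(2)` -/
theorem exists_equiv : Nonempty (PSU 6 F4 2 ≃* stabilizer Spor.Co2 x0) := by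
  have h1 : H681.CoTwoUSix.YY = stabilizer Spor.Co2 x0 := by
    ext γ
    constructor
    · intro h
      exact Subtype.ext h
    · intro h
      exact congrArg Subtype.val h
  obtain ⟨e⟩ := S1577.result a0 y1 (by rw [norm_eq]; exact dt_a0_a0) (by rw [norm_eq]; exact y1_mem.1)
    y1_mem.2.1 F4 H365.RIM.hF4
  exact ⟨(((MulEquiv.subgroupCongr h1.symm).trans (H681.CoTwoUSix.YY.equivMapOfInjective H681.CoTwoUSix.j
    H681.CoTwoUSix.j_inj)).trans ((MulEquiv.subgroupCongr H681.CoTwoUSix.map_YY).trans e)).symm⟩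

/-- **no character of degree 45** -/
theorem no45 (χ : IrrCharacter Spor.Co2) : charDegree (χ : Spor.Co2 → ℂ) ≠ 45 := by
  classical
  intro hd
  have := Fintype.ofFinite Spor.Co2
  have := USix.fin
  have := Fintype.ofFinite USix.U
  have := Fintype.ofFinite (stabilizer Spor.Co2 x0)
  have : Finite (IrrCharacter USix.U) := finite_irr
  have := Fintype.ofFinite (IrrCharacter USix.U)
  obtain ⟨e⟩ := exists_equiv
  let f : USix.U →* Spor.Co2 := (stabilizer Spor.Co2 x0).subtype.comp e.toMonoidHom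
  have hs : ∑ g : USix.U, (χ : Spor.Co2 → ℂ) (f g) = 0 := by
    rw [← sum_stab0 χ (by omega) (by omega) (by omega) (by omega) (by omega)]
    exact Fintype.sum_equiv e.toEquiv _ _ fun g => rfl
  have hθ : IsCharacter USix.U (fun g => (χ : Spor.Co2 → ℂ) (f g)) := isCharacter_comp f (isIrr_isCharacter χ.2)
  obtain ⟨m, hm⟩ := exists_nat_comb hθ
  have hdeg := H133.Ore.sum_degree_eq hθ (n := 45) (by
    show (χ : Spor.Co2 → ℂ) (f 1) = _
    rw [map_one, Blocks.Knorr.charDegree_eq χ.2, hd]) m hm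
  -- the trivial constituent
  let ψ₁ : IrrCharacter USix.U := ⟨1, isIrr_one⟩
  have h0 : m ψ₁ = 0 := by
    have h1 : classInner (fun g => (χ : Spor.Co2 → ℂ) (f g)) (1 : USix.U → ℂ) = (m ψ₁ : ℂ) := by
      rw [hm]
      exact classInner_sum_nsmul_irr m ψ₁
    have h2 : classInner (fun g => (χ : Spor.Co2 → ℂ) (f g)) (1 : USix.U → ℂ) = 0 := by
      rw [classInner_def]
      simp only [Pi.one_apply, map_one, mul_one]
      rw [hs, mul_zero]
    rw [h2] at h1
    exact_mod_cast h1.symm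
  have hterm : ∀ ψ : IrrCharacter USix.U, m ψ * charDegree (ψ : USix.U → ℂ) =
      21 * (if charDegree (ψ : USix.U → ℂ) = 21 then m ψ else 0) +
      22 * (if charDegree (ψ : USix.U → ℂ) = 22 then m ψ else 0) +
      27 * (if charDegree (ψ : USix.U → ℂ) = 27 then m ψ else 0) +
      28 * (if charDegree (ψ : USix.U → ℂ) = 28 then m ψ else 0) := by
    intro ψ
    by_cases h1 : (ψ : USix.U → ℂ) = 1
    · have : ψ = ψ₁ := Subtype.ext h1
      rw [this, h0]
      simp
    · rcases USix.deg ψ h1 with h | h | h | h | h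
      · rw [h]; simp; ring
      · rw [h]; simp; ring
      · rw [h]; simp; ring
      · rw [h]; simp; ring
      · have h2 : m ψ * charDegree (ψ : USix.U → ℂ) ≤ 45 := by
          rw [← hdeg]
          exact Finset.single_le_sum (f := fun ψ : IrrCharacter USix.U => m ψ * charDegree (ψ : USix.U → ℂ))
            (fun _ _ => Nat.zero_le _) (Finset.mem_univ ψ)
        have h3 : m ψ = 0 := by
          by_contra h4
          have h5 : 1 * 46 ≤ m ψ * charDegree (ψ : USix.U → ℂ) := Nat.mul_le_mul (Nat.one_le_iff_ne_zero.2 h4) h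
          omega
        rw [h3]
        simp
  rw [Finset.sum_congr rfl fun ψ _ => hterm ψ, Finset.sum_add_distrib, Finset.sum_add_distrib, Finset.sum_add_distrib,
    ← Finset.mul_sum, ← Finset.mul_sum, ← Finset.mul_sum, ← Finset.mul_sum] at hdeg
  have key : ∀ a b c d : ℕ, 21 * a + 22 * b + 27 * c + 28 * d ≠ 45 := by
    intro a b c d h
    have h1 : a ≤ 2 := by omega
    have h2 : b ≤ 2 := by omega
    have h3 : c ≤ 1 := by omega
    interval_cases a <;> interval_cases b <;> interval_cases c <;> omega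
  exact key _ _ _ _ hdeg

end Cfsg.Agent.H974.S8.CoTwo
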