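import Cfsg.Agent.SmallSimple.DegreeData
import Cfsg.Agent.H444.FprTable
import Cfsg.Prelude.Def_DegreeGraph

/-!
# S4908: an exceptional character of the principal block (helper974)

* `exists_exc` : if the Sylow `p`-subgroup has order `p` and `e = |N : C|`, there is a degree `± e` modulo `p`.
-/

set_option autoImplicit false

namespace Cfsg.Agent.H974.S8

open Cfsg Subgroup Cfsg.Agent.SmallSimple.DegreeData

universe u

theorem exists_exc {G : Type u} [Group G] [Finite G] {p e t : ℕ} [hp : Fact p.Prime] (hp2 : p ≠ 2)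
    (P : Sylow p G) (hP : Nat.card P = p)
    (he : (centralizer (P : Set G)).relIndex (normalizer (P : Set G)) = e) (ht : e * t = p - 1) :
    ∃ d ∈ charDegrees G, (d : ℤ) ≡ e [ZMOD p] ∨ -(d : ℤ) ≡ e [ZMOD p] := by
  obtain ⟨M, hM⟩ := Blocks.Knorr.exists_isPModular p
  obtain ⟨D⟩ := exists_blockData p hp2 M hM P hP e t he ht
  obtain ⟨Θ, hΘ⟩ := D.exists_X ht
  refine ⟨D.f, ⟨Θ, D.deg_X Θ hΘ⟩, ?_⟩
  have h := D.dexc_modEq hP ht
  rcases D.d_mem with h1 | h1
  · left
    simpa [BlockData.dexc, h1] using h
  · right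
    simpa [BlockData.dexc, h1] using h

/-- a degree `± e` mod `r` -/
theorem exists_known {G : Type u} [Group G] [Finite G] {r c e : ℕ} (h : H444.Fpr.Known G r c e) (h2 : r ≠ 2) :
    ∃ d ∈ charDegrees G, (d : ℤ) ≡ e [ZMOD r] ∨ -(d : ℤ) ≡ e [ZMOD r] := by
  have hr : Fact r.Prime := ⟨h.prime⟩
  obtain ⟨P⟩ : Nonempty (Sylow r G) := inferInstance
  have hP : Nat.card P = r := by
    obtain ⟨n, hn⟩ := (IsPGroup.iff_card (p := r)).1 P.isPGroup'
    have h1 : r ∣ Nat.card P := by
      have h3 := P.card_eq_multiplicity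
      rw [h3]
      exact dvd_pow_self r (by
        have := h.prime.factorization_pos_of_dvd Nat.card_pos.ne' h.dvd
        omega)
    have h4 : ¬ r * r ∣ Nat.card P := fun h5 => h.nsq (h5.trans (card_subgroup_dvd_card _))
    rw [hn] at h1 h4 ⊢
    rcases n with _ | _ | n
    · rw [pow_zero, Nat.dvd_one] at h1
      exact absurd h1 h.prime.one_lt.ne'
    · rw [zero_add, pow_one]
    · exact absurd ⟨r ^ n, by ring⟩ h4
  obtain ⟨z, hz⟩ := exists_prime_orderOf_dvd_card' (G := P) r (by rw [hP])
  have hz' : orderOf (z : G) = r := by rw [Subgroup.orderOf_coe, hz]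
  have hPz : (P : Subgroup G) = zpowers (z : G) := by
    symm
    refine Subgroup.eq_of_le_of_card_ge ?_ ?_
    · rw [zpowers_le]
      exact z.2
    · rw [Nat.card_zpowers, hz']
      exact hP.le
  have hc := h.cent z hz'
  have hn := h.norm z hz'
  have he : (centralizer (P : Set G)).relIndex (normalizer (P : Set G)) = e := by
    have h1 : (centralizer (P : Set G)) = centralizer ({(z : G)} : Set G) := by
      have : ((P : Subgroup G) : Set G) = (zpowers (z : G) : Set G) := congrArg (fun K : Subgroup G => (K : Set G)) hPz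
      rw [show ((P : Sylow r G) : Set G) = (zpowers (z : G) : Set G) from this, zpowers_eq_closure,
        centralizer_closure]
    have h2 : (normalizer (P : Set G)) = normalizer (zpowers (z : G) : Set G) := by
      have : ((P : Subgroup G) : Set G) = (zpowers (z : G) : Set G) := congrArg (fun K : Subgroup G => (K : Set G)) hPz
      rw [show ((P : Sylow r G) : Set G) = (zpowers (z : G) : Set G) from this]
    have h3 : centralizer (P : Set G) ≤ normalizer (P : Set G) := by
      exact Subgroup.centralizer_le_normalizer _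
    have h4 := Subgroup.card_mul_index ((centralizer (P : Set G)).subgroupOf (normalizer (P : Set G)))
    rw [Nat.card_congr (Subgroup.subgroupOfEquivOfLe h3).toEquiv] at h4
    have h5 : Nat.card (centralizer (P : Set G)) = r * c := by rw [h1, hc]
    have h6 : Nat.card (normalizer (P : Set G)) = r * c * e := by rw [h2, hn]
    rw [h5, h6] at h4
    have h7 : 0 < r * c := h5 ▸ Nat.card_pos
    exact Nat.eq_of_mul_eq_mul_left h7 h4
  obtain ⟨k, hk⟩ : e ∣ r - 1 := by
    obtain ⟨k, hk1, -, -, hk4, -⟩ := H547.SelfCent.arith h.prime hz' h.nsq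
    rw [hn, hc] at hk4
    have h7 : 0 < r * c := hc ▸ Nat.card_pos
    have := Nat.eq_of_mul_eq_mul_left h7 hk4
    rw [this]
    exact hk1
  exact exists_exc h2 P hP he hk.symm

end Cfsg.Agent.H974.S8
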