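import Cfsg.Agent.H633.Ore.Co2Ore
import Cfsg.Agent.H704.S8.Defs
import Cfsg.Agent.H816.OutEmb
import Cfsg.Agent.H424.DegTools
import Cfsg.Agent.H498.SporOut
import Cfsg.Agent.SmallSimple.DegreeData
import Cfsg.Agent.S2064
import Cfsg.Agent.S2070
import Cfsg.Agent.S2071

/-!
# S4908: `Co2` has at most 78 conjugacy classes; degrees of almost simple groups with `Out S = 1` (helper974)

* `card_classes_le` : a cover by words in involutions: a commutator `[a, b]` is real if `a` or `b` is a palindrome;
* `card_classes_co2` : `k(Co2) ≤ 78`;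
* `card_le_of_degrees` : `|G| ≤ k(G) M` if all degrees have `d ^ 2 ≤ M`;
* `one_deg` : the degrees of `S` are degrees of `A` if `Out S = 1`.
-/

set_option autoImplicit false

namespace Cfsg.Agent.H974.S8

open Cfsg
open Cfsg.Agent.H68.Ore
open Cfsg.Agent.H691.AN (AlmostSimple)

universe u v

section Words

variable {G : Type u} [Group G]

/-- one of the two words is a palindrome -/
def real (p : List ℕ × List ℕ) : Bool := (p.1.reverse == p.1) || (p.2.reverse == p.2)

theorem isConj_inv {tt : ℕ → G} (h : ∀ k, tt k * tt k = 1) {p : List ℕ × List ℕ} (hp : real p = true) :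
    IsConj (Words.wd tt (Words.cw p)) (Words.wd tt (Words.cw p))⁻¹ := by
  rw [Words.wd_cw h]
  rw [real, Bool.or_eq_true] at hp
  rcases hp with hp | hp
  · have h1 := Words.wd_sq h (w := p.1) (by simpa using hp)
    generalize Words.wd tt p.1 = s at *
    generalize Words.wd tt p.2 = b at *
    have e1 : s⁻¹ = s := inv_eq_of_mul_eq_one_left h1
    refine isConj_iff.2 ⟨s, ?_⟩
    rw [e1]
    calc s * (s * b * s * b⁻¹) * s = (s * s) * (b * s * b⁻¹ * s) := by group
      _ = b * s * b⁻¹ * s := by rw [h1, one_mul]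
      _ = b * s⁻¹ * b⁻¹ * s⁻¹ := by rw [e1]
      _ = _ := by group
  · have h1 := Words.wd_sq h (w := p.2) (by simpa using hp)
    generalize Words.wd tt p.1 = a at *
    generalize Words.wd tt p.2 = s at *
    have e1 : s⁻¹ = s := inv_eq_of_mul_eq_one_left h1
    refine isConj_iff.2 ⟨s, ?_⟩
    rw [e1]
    calc s * (a * s * a⁻¹ * s) * s = s * (a * s * a⁻¹) * (s * s) := by group
      _ = s * (a * s * a⁻¹) := by rw [h1, mul_one]
      _ = s⁻¹ * (a * s⁻¹ * a⁻¹) := by rw [e1]
      _ = _ := by group

open Classical in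
/-- the classes of a word and its inverse -/
noncomputable def cl (tt : ℕ → G) (p : List ℕ × List ℕ) : List (ConjClasses G) :=
  if real p = true then [ConjClasses.mk (Words.wd tt (Words.cw p))] else
    [ConjClasses.mk (Words.wd tt (Words.cw p)), ConjClasses.mk (Words.wd tt (Words.cw p))⁻¹]

theorem length_cl (tt : ℕ → G) (p : List ℕ × List ℕ) : (cl tt p).length = if real p = true then 1 else 2 := by
  rw [cl]
  split_ifs <;> rfl

theorem card_classes_le [Finite G] {tt : ℕ → G} (h : ∀ k, tt k * tt k = 1) {L : List (List ℕ × List ℕ)}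
    {R : List (List ℕ)} (hR : R = L.map Words.cw)
    (hc : ∀ g : G, ∃ w ∈ R, IsConj (Words.wd tt w) g ∨ IsConj (Words.wd tt w)⁻¹ g) :
    Nat.card (ConjClasses G) ≤ (L.map fun p => if real p = true then 1 else 2).sum := by
  have hmem : ∀ c : ConjClasses G, c ∈ L.flatMap (cl tt) := by
    intro c
    obtain ⟨g, rfl⟩ := ConjClasses.exists_rep c
    obtain ⟨w, hw, hg⟩ := hc g
    rw [hR, List.mem_map] at hw
    obtain ⟨p, hp, rfl⟩ := hw
    refine List.mem_flatMap.2 ⟨p, hp, ?_⟩
    rw [cl]
    split_ifs with hr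
    · have h1 : IsConj (Words.wd tt (Words.cw p)) g := by
        rcases hg with hg | hg
        · exact hg
        · exact (isConj_inv h hr).trans hg
      rw [List.mem_singleton]
      exact (ConjClasses.mk_eq_mk_iff_isConj.2 h1).symm
    · rcases hg with hg | hg
      · exact List.mem_cons.2 (Or.inl (ConjClasses.mk_eq_mk_iff_isConj.2 hg).symm)
      · exact List.mem_cons.2 (Or.inr (List.mem_singleton.2 (ConjClasses.mk_eq_mk_iff_isConj.2 hg).symm))
  have h1 : Nat.card (ConjClasses G) ≤ Nat.card (Fin (L.flatMap (cl tt)).length) :=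
    Nat.card_le_card_of_surjective (fun i => (L.flatMap (cl tt)).get i) fun c => List.mem_iff_get.1 (hmem c)
  rw [Nat.card_fin, List.length_flatMap] at h1
  refine h1.trans (le_of_eq ?_)
  congr 1
  exact List.map_congr_left fun p _ => length_cl tt p

end Words

theorem card_classes_co2 : Nat.card (ConjClasses Spor.Co2) ≤ 78 := by
  have : Finite Spor.Co2 := Nat.finite_of_card_ne_zero (by rw [Cfsg.Agent.BiChar.Small.card_Co2]; norm_num)
  refine (card_classes_le (tt := H633.Ore.Co2.tt) H633.Ore.Co2.tt_sq H633.Ore.Co2.reps_cw H633.Ore.Co2.cover).trans ?_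
  decide +kernel

/-- `|G| ≤ k(G) M` -/
theorem card_le_of_degrees {G : Type u} [Group G] [Finite G] {M : ℕ} (h : ∀ a ∈ charDegrees G, a ^ 2 ≤ M) :
    Nat.card G ≤ Nat.card (ConjClasses G) * M := by
  have : Finite (IrrCharacter G) := Cfsg.Agent.Characters.Core.finite_irr
  have := Fintype.ofFinite (IrrCharacter G)
  rw [← Cfsg.Agent.SmallSimple.DegreeData.sum_sq, ← Cfsg.Agent.Characters.Core.card_irr, Nat.card_eq_fintype_card,
    ← smul_eq_mul]
  exact Finset.sum_le_card_nsmul _ _ _ fun χ _ => h _ ⟨χ, rfl⟩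

section Out

variable {A : Type u} [Group A] [Finite A] {S : Subgroup A}

theorem one_deg (hA : AlmostSimple A S) (hout : Nat.card (Out S) = 1) {a : ℕ} (ha : a ∈ charDegrees S) :
    a ∈ charDegrees A := by
  have := hA.normal
  obtain ⟨e, h3, ⟨c, rfl⟩, h5⟩ := H424.DegTools.clifford_up S ha
  have hpos : 0 < a := H424.DegTools.pos_of_mem ha
  rw [Nat.mul_div_cancel_left _ hpos] at h5
  have h6 : c ∣ Nat.card (Out S) := h5.trans (H816.OutEmb.index_dvd S (by rw [hA.cent]; exact bot_le))
  rw [hout, Nat.dvd_one] at h6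
  rwa [h6, mul_one] at h3

theorem out_congr {K : Type u} [Group K] {M : Type v} [Group M] (e : K ≃* M) (h : Nat.card (Out M) = 1) :
    Nat.card (Out K) = 1 :=
  (H498.SporOut.index_congr e).trans h

/-- the version for a model -/
theorem one_deg' (hA : AlmostSimple A S) {M : Type v} [Group M] (e : S ≃* M) (h : Nat.card (Out M) = 1) {a : ℕ}
    (ha : a ∈ charDegrees M) : a ∈ charDegrees A :=
  one_deg hA (out_congr e h) (by rw [H424.DegTools.charDegrees_congr e]; exact ha)

end Out

end Cfsg.Agent.H974.S8
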